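import Mathlib

/-! # Flat completion over a discrete valuation ring -/

open CategoryTheory Limits AlgebraicGeometry

universe u

set_option backward.isDefEq.respectTransparency.types false

noncomputable section

namespace GrothLib.DvrClosure

variable {A : Type u} [CommRing A] [IsDomain A] [IsDiscreteValuationRing A]

theorem singleton_eq_basicOpen (η : Spec (CommRingCat.of A)) (hη : η.asIdeal = ⊥) {π : A}
    (hπ : Irreducible π) :
    ({η} : Set (Spec (CommRingCat.of A))) = (PrimeSpectrum.basicOpen π : Set (PrimeSpectrum A)) := by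
  ext p
  constructor
  · rintro rfl
    show π ∉ p.asIdeal
    rw [hη]; simpa using hπ.ne_zero
  · intro (hp : π ∉ p.asIdeal)
    refine PrimeSpectrum.ext ?_
    rw [hη]
    by_contra hne
    exact hp ((IsLocalRing.eq_maximalIdeal (p.2.isMaximal hne)).symm ▸
      (IsDiscreteValuationRing.irreducible_iff_uniformizer π).mp hπ ▸ Ideal.mem_span_singleton_self π)

theorem isOpenImmersion_fromSpecResidueField (η : Spec (CommRingCat.of A)) (hη : η.asIdeal = ⊥) :
    IsOpenImmersion ((Spec (CommRingCat.of A)).fromSpecResidueField η) := by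
  obtain ⟨π, hπ⟩ := IsDiscreteValuationRing.exists_irreducible A
  set j := (Spec (CommRingCat.of A)).fromSpecResidueField η
  have hF : IsField ((Spec (CommRingCat.of A)).presheaf.stalk η) := by
    letI : Algebra A ((Spec (CommRingCat.of A)).presheaf.stalk η) :=
      inferInstanceAs (Algebra A ((Spec.structureSheaf A).presheaf.stalk η))
    haveI : IsLocalization.AtPrime ((Spec (CommRingCat.of A)).presheaf.stalk η) η.asIdeal :=
      inferInstanceAs (IsLocalization.AtPrime ((Spec.structureSheaf A).presheaf.stalk η) η.asIdeal)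
    haveI : IsFractionRing A ((Spec (CommRingCat.of A)).presheaf.stalk η) := by
      have h : η.asIdeal.primeCompl = nonZeroDivisors A := by
        ext x; simp [Ideal.primeCompl, hη]
      show IsLocalization (nonZeroDivisors A) _
      rw [← h]; infer_instance
    letI := IsFractionRing.toField A (K := (Spec (CommRingCat.of A)).presheaf.stalk η)
    exact Field.toIsField _
  refine IsOpenImmersion.iff_isIso_stalkMap.mpr ⟨⟨j.isEmbedding, ?_⟩, fun s => ?_⟩
  · rw [Scheme.range_fromSpecResidueField, singleton_eq_basicOpen η hη hπ]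
    exact PrimeSpectrum.isOpen_basicOpen
  · have hs : j s = η := Scheme.fromSpecResidueField_apply _ _
    have : IsField ((Spec (CommRingCat.of A)).presheaf.stalk (j s)) := by rw [hs]; exact hF
    letI := this.toField
    refine (ConcreteCategory.isIso_iff_bijective _).mpr ⟨?_, j.stalkMap_surjective s⟩
    exact (j.stalkMap s).hom.injective

variable {X : Scheme.{u}} (f : X ⟶ Spec (CommRingCat.of A)) (U : X.affineOpens)

/-- The structure map `A → Γ(X, U)`. -/
noncomputable def strMap : A →+* Γ(X, U) :=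
  ((Scheme.ΓSpecIso (CommRingCat.of A)).inv ≫ f.appLE ⊤ U (show (U : X.Opens) ≤ f ⁻¹ᵁ ⊤ from le_top)).hom

theorem preimage_inf_eq_basicOpen (η : Spec (CommRingCat.of A)) (hη : η.asIdeal = ⊥) {π : A}
    (hπ : Irreducible π) :
    ((U : X.Opens) : Set X) ∩ f ⁻¹' {η} = (X.basicOpen (strMap f U π) : Set X) := by
  have h1 : (Spec (CommRingCat.of A)).basicOpen ((Scheme.ΓSpecIso (CommRingCat.of A)).inv π) =
      PrimeSpectrum.basicOpen π := AlgebraicGeometry.basicOpen_eq_of_affine' _ |>.trans (by simp)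
  have h2 : X.basicOpen (strMap f U π) =
      (U : X.Opens) ⊓ f ⁻¹ᵁ (Spec (CommRingCat.of A)).basicOpen
        ((Scheme.ΓSpecIso (CommRingCat.of A)).inv π) := by
    rw [Scheme.preimage_basicOpen]
    simp only [strMap, CommRingCat.hom_comp, RingHom.comp_apply, Scheme.Hom.appLE,
      CommRingCat.comp_apply]
    exact X.basicOpen_res _ _
  rw [h2, h1, singleton_eq_basicOpen η hη hπ]
  rfl

theorem mem_ker_iff (η : Spec (CommRingCat.of A)) (hη : η.asIdeal = ⊥) {π : A}
    (hπ : Irreducible π) (b : Γ(X, U)) :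
    b ∈ (f.fiberι η).ker.ideal U ↔ ∃ n : ℕ, strMap f U π ^ n * b = 0 := by
  haveI := isOpenImmersion_fromSpecResidueField η hη
  haveI : IsOpenImmersion (f.fiberι η) := inferInstanceAs (IsOpenImmersion (pullback.fst _ _))
  haveI : QuasiCompact ((Spec (CommRingCat.of A)).fromSpecResidueField η) := inferInstance
  haveI : QuasiCompact (f.fiberι η) :=
    MorphismProperty.pullback_fst (P := @QuasiCompact) _ _ ‹_›
  rw [Scheme.Hom.ker_apply, RingHom.mem_ker]
  have hrange : (U : X.Opens) ⊓ (f.fiberι η).opensRange = X.basicOpen (strMap f U π) := by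
    refine TopologicalSpace.Opens.ext ?_
    rw [← preimage_inf_eq_basicOpen f U η hη hπ, ← Scheme.Hom.range_fiberι]
    rfl
  haveI : IsIso ((f.fiberι η).app (X.basicOpen (strMap f U π))) :=
    (f.fiberι η).isIso_app _ (hrange ▸ inf_le_right)
  have hnat := (f.fiberι η).naturality (homOfLE (X.basicOpen_le (strMap f U π))).op
  have hpre : f.fiberι η ⁻¹ᵁ X.basicOpen (strMap f U π) = f.fiberι η ⁻¹ᵁ U := by
    rw [← hrange, Scheme.Hom.preimage_inf]
    simp
  have hres : (X.presheaf.map (homOfLE (X.basicOpen_le (strMap f U π))).op).hom b = 0 ↔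
      (f.fiberι η).app U b = 0 := by
    rw [← map_eq_zero_iff ((f.fiberι η).app (X.basicOpen (strMap f U π))).hom
      (ConcreteCategory.bijective_of_isIso _).1, ← RingHom.comp_apply, ← CommRingCat.hom_comp, hnat,
      CommRingCat.hom_comp, RingHom.comp_apply]
    haveI : IsIso ((f.fiber η).presheaf.map ((TopologicalSpace.Opens.map (f.fiberι η).base).map
      (homOfLE (X.basicOpen_le (strMap f U π)))).op) := by
      rw [show ((TopologicalSpace.Opens.map (f.fiberι η).base).map (homOfLE (X.basicOpen_le (strMap f U π)))) = eqToHom hpre from Subsingleton.elim _ _]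
      infer_instance
    exact map_eq_zero_iff _ (ConcreteCategory.bijective_of_isIso
      ((f.fiber η).presheaf.map ((TopologicalSpace.Opens.map (f.fiberι η).base).map
        (homOfLE (X.basicOpen_le (strMap f U π)))).op)).1
  haveI := U.2.isLocalization_basicOpen (strMap f U π)
  rw [← hres]
  change algebraMap Γ(X, U) Γ(X, X.basicOpen (strMap f U π)) b = 0 ↔ _
  rw [IsLocalization.map_eq_zero_iff (Submonoid.powers (strMap f U π))]
  exact ⟨fun ⟨⟨_, n, rfl⟩, h⟩ => ⟨n, h⟩, fun ⟨n, h⟩ => ⟨⟨_, n, rfl⟩, h⟩⟩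

theorem ker_le_of_flat (η : Spec (CommRingCat.of A)) (hη : η.asIdeal = ⊥) {Z : Scheme.{u}}
    (i : Z ⟶ X) [IsClosedImmersion i] (hZ : Flat (i ≫ f)) : (f.fiberι η).ker ≤ i.ker := by
  obtain ⟨π, hπ⟩ := IsDiscreteValuationRing.exists_irreducible A
  intro U b hb
  obtain ⟨n, hn⟩ := (mem_ker_iff f U η hη hπ b).mp hb
  rw [Scheme.Hom.ker_apply, RingHom.mem_ker]
  let φ : A →+* Γ(Z, i ⁻¹ᵁ U) := (i.app U).hom.comp (strMap f U)
  have hflat : φ.Flat := by
    have h := HasRingHomProperty.appLE @Flat (i ≫ f) hZ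
      ⟨⊤, isAffineOpen_top (Spec (CommRingCat.of A))⟩ ⟨i ⁻¹ᵁ U, U.2.preimage i⟩ (by simp)
    have heq : φ = ((Scheme.ΓSpecIso (CommRingCat.of A)).inv ≫
        (i ≫ f).appLE ⊤ (i ⁻¹ᵁ U) (by simp)).hom := by
      simp only [φ, strMap, ← CommRingCat.hom_comp, Category.assoc]
      rw [Scheme.Hom.app_eq_appLE, ← CommRingCat.hom_comp, Category.assoc, Scheme.Hom.appLE_comp_appLE]
    rw [heq, CommRingCat.hom_comp]
    exact RingHom.Flat.comp (RingHom.Flat.of_bijective
      (ConcreteCategory.bijective_of_isIso (Scheme.ΓSpecIso (CommRingCat.of A)).inv)) h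
  letI := φ.toAlgebra
  haveI : Module.Flat A Γ(Z, i ⁻¹ᵁ U) := hflat
  have h0 : (i.app U).hom (strMap f U π ^ n * b) = 0 := by rw [hn, map_zero]
  rw [map_mul, map_pow] at h0
  have h1 : (π ^ n) • (i.app U).hom b = 0 := by
    rw [Algebra.smul_def, map_pow]; exact h0
  by_contra hne
  have hz : (i.app U).hom b ∈ Submodule.torsion A Γ(Z, i ⁻¹ᵁ U) :=
    ⟨⟨π ^ n, mem_nonZeroDivisors_of_ne_zero (pow_ne_zero n hπ.ne_zero)⟩, h1⟩
  rw [Module.Flat.torsion_eq_bot] at hz
  exact hne hz

theorem flat_quotient (η : Spec (CommRingCat.of A)) (hη : η.asIdeal = ⊥) :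
    ((Ideal.Quotient.mk ((f.fiberι η).ker.ideal U)).comp (strMap f U)).Flat := by
  obtain ⟨π, hπ⟩ := IsDiscreteValuationRing.exists_irreducible A
  set I := (f.fiberι η).ker.ideal U
  letI := ((Ideal.Quotient.mk I).comp (strMap f U)).toAlgebra
  show Module.Flat A (Γ(X, U) ⧸ I)
  rw [Module.Flat.flat_iff_torsion_eq_bot_of_isBezout, eq_bot_iff]
  rintro x ⟨⟨a, ha⟩, hax : a • x = 0⟩
  obtain ⟨b, rfl⟩ := Ideal.Quotient.mk_surjective x
  obtain ⟨w, n, rfl⟩ := IsDiscreteValuationRing.eq_unit_mul_pow_irreducible (nonZeroDivisors.ne_zero ha) hπ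
  rw [Algebra.smul_def, RingHom.algebraMap_toAlgebra, RingHom.comp_apply, ← map_mul,
    Ideal.Quotient.eq_zero_iff_mem, mem_ker_iff f U η hη hπ] at hax
  obtain ⟨m, hm⟩ := hax
  rw [Submodule.mem_bot, Ideal.Quotient.eq_zero_iff_mem, mem_ker_iff f U η hη hπ]
  refine ⟨m + w, ?_⟩
  rw [map_mul, map_pow] at hm
  have h := congrArg (fun z => strMap f U ↑n⁻¹ * z) hm
  simp only [mul_zero] at h
  rw [← h, pow_add]
  have hn : strMap f U ↑n⁻¹ * strMap f U ↑n = 1 := by rw [← map_mul, Units.inv_mul, map_one]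
  linear_combination (-(strMap f U π ^ m * strMap f U π ^ w * b)) * hn

theorem flat_imageι (η : Spec (CommRingCat.of A)) (hη : η.asIdeal = ⊥) :
    Flat ((f.fiberι η).imageι ≫ f) := by
  rw [IsZariskiLocalAtSource.iff_of_openCover (P := @Flat) (f.fiberι η).ker.subschemeCover.openCover]
  intro (U : X.affineOpens)
  change Flat ((f.fiberι η).ker.subschemeCover.f U ≫ (f.fiberι η).ker.subschemeι ≫ f)
  rw [← Category.assoc, Scheme.IdealSheafData.subschemeCover_map_subschemeι]
  erw [Category.assoc]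
  have : (f.fiberι η).ker.glueDataObjι U ≫ U.1.ι ≫ f =
      Spec.map (CommRingCat.ofHom ((Ideal.Quotient.mk ((f.fiberι η).ker.ideal U)).comp (strMap f U))) := by
    rw [Scheme.IdealSheafData.glueDataObjι, CommRingCat.ofHom_comp, Spec.map_comp, Category.assoc]
    congr 1
    rw [strMap, CommRingCat.ofHom_hom, Spec.map_comp,
      show Spec.map (Scheme.ΓSpecIso (CommRingCat.of A)).inv =
        (isAffineOpen_top (Spec (CommRingCat.of A))).fromSpec from (by simp [IsAffineOpen.fromSpec_top, Scheme.isoSpec_Spec_inv]),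
      IsAffineOpen.SpecMap_appLE_fromSpec f _ U.2, IsAffineOpen.fromSpec, Category.assoc]
  have h2 : Flat (Spec.map (CommRingCat.ofHom
      ((Ideal.Quotient.mk ((f.fiberι η).ker.ideal U)).comp (strMap f U)))) :=
    (HasRingHomProperty.Spec_iff (P := @Flat)).mpr (flat_quotient f U η hη)
  rw [← this] at h2
  exact h2

end GrothLib.DvrClosure
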